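import Cfsg.Agent.Lib.SteinbergTwo.Abstract

/-!
The Bruhat normal form of the rank one relations over any field, given that the torus map is multiplicative.
-/

set_option autoImplicit false

namespace CfsgLib.ChevSL2

open CfsgLib.SteinbergTwo

variable {K G : Type*} [Field K] [Group G] {x : Bool → K → G}

local notation "𝐮" => x true
local notation "𝐯" => x false
local notation "𝐰" => wWord x true
local notation "𝐡" => hWord x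

theorem normal_form_of_mul (R : Rel x) (hmul : ∀ t u : K, t ≠ 0 → u ≠ 0 → 𝐡 t * 𝐡 u = 𝐡 (t * u))
    {g : G} (hgS : g ∈ Subgroup.closure {g : G | ∃ b t, g = x b t}) :
    ∃ (a t : K), t ≠ 0 ∧ (g = 𝐮 a * 𝐡 t ∨ ∃ b, g = 𝐮 a * 𝐡 t * 𝐰 1 * 𝐮 b) := by
  have hm := fun {t u : K} (ht : t ≠ 0) (hu : u ≠ 0) => hmul t u ht hu
  have hh : (-1 : K) ≠ 0 := neg_ne_zero.2 one_ne_zero
  have hwh : ∀ s : K, s ≠ 0 → 𝐰 s = 𝐡 s * 𝐰 1 := fun s _ => by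
    rw [hWord, mul_assoc, ← R.w_inv, inv_mul_cancel, mul_one]
  have hxh : ∀ (t c : K), t ≠ 0 → 𝐡 t * 𝐮 c = 𝐮 (t ^ 2 * c) * 𝐡 t := fun t c ht => by
    have h := R.h_conj ht true c
    rw [if_pos rfl] at h
    rw [← h]; simp
  have hinv : ∀ s : K, s ≠ 0 → (𝐡 s)⁻¹ = 𝐡 s⁻¹ := fun s hs => by
    rw [inv_eq_iff_mul_eq_one, hm hs (inv_ne_zero hs), mul_inv_cancel₀ hs, R.h_one]
  have hwinv : (𝐰 1)⁻¹ = 𝐡 (-1) * 𝐰 1 := by rw [R.w_inv]; exact hwh _ hh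
  have hww : 𝐰 1 * 𝐰 1 = 𝐡 (-1) := by
    have h : 𝐡 (-1) * 𝐰 1 * 𝐰 1 = 1 := by rw [← hwinv, inv_mul_cancel]
    rw [mul_assoc] at h
    rw [eq_inv_of_mul_eq_one_right h, hinv _ hh, inv_neg, inv_one]
  -- closed under right multiplication by `𝐮` and `𝐰 1`
  set N : G → Prop := fun g => ∃ (a t : K), t ≠ 0 ∧ (g = 𝐮 a * 𝐡 t ∨ ∃ b, g = 𝐮 a * 𝐡 t * 𝐰 1 * 𝐮 b)
  have hNx : ∀ g c, N g → N (g * 𝐮 c) := by
    rintro g c ⟨a, t, ht, rfl | ⟨b, rfl⟩⟩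
    · exact ⟨a + t ^ 2 * c, t, ht, .inl (by rw [mul_assoc, hxh t c ht, ← mul_assoc, R.add])⟩
    · exact ⟨a, t, ht, .inr ⟨b + c, by rw [mul_assoc _ (𝐮 b), R.add]⟩⟩
  have hNh : ∀ g s, s ≠ 0 → N g → N (g * 𝐡 s) := by
    rintro g s hs ⟨a, t, ht, rfl | ⟨b, rfl⟩⟩
    · exact ⟨a, t * s, mul_ne_zero ht hs, .inl (by rw [mul_assoc, hm ht hs])⟩
    · refine ⟨a, t * s⁻¹, mul_ne_zero ht (inv_ne_zero hs), .inr ⟨s⁻¹ ^ 2 * b, ?_⟩⟩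
      have e1 : 𝐮 b * 𝐡 s = 𝐡 s * 𝐮 (s⁻¹ ^ 2 * b) := by
        rw [hxh s _ hs, ← mul_assoc (s ^ 2), ← mul_pow, mul_inv_cancel₀ hs, one_pow, one_mul]
      have e2 : 𝐰 1 * 𝐡 s = 𝐡 s⁻¹ * 𝐰 1 := by
        have h : 𝐰 1 * 𝐡 s * (𝐰 1)⁻¹ = 𝐡 s⁻¹ := by
          have hs' : 𝐡 s = 𝐰 s * (𝐰 1)⁻¹ := by rw [R.w_inv]; rfl
          have hsi : 𝐡 s⁻¹ = 𝐰 s⁻¹ * (𝐰 1)⁻¹ := by rw [R.w_inv]; rfl
          rw [hs', hsi, ← mul_assoc]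
          have := R.w_conj_w one_ne_zero hs
          rw [one_pow, one_mul] at this
          rw [← this]
        rw [← h]; simp [mul_assoc]
      rw [← hm ht (inv_ne_zero hs)]
      simp only [mul_assoc]
      rw [e1, ← mul_assoc (𝐰 1), e2]
      simp only [mul_assoc]
  have hNv : ∀ g c, N g → (∀ a t, t ≠ 0 → g = 𝐮 a * 𝐡 t → N (g * 𝐯 c)) := by
    intro g c hg a t ht e
    rcases eq_or_ne c 0 with rfl | hc
    · rwa [R.zero, mul_one]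
    have hs : -c⁻¹ ≠ 0 := neg_ne_zero.2 (inv_ne_zero hc)
    have e1 : 𝐯 c = 𝐮 c⁻¹ * 𝐡 (-c⁻¹) * 𝐰 1 * 𝐮 c⁻¹ := by
      rw [mul_assoc (𝐮 c⁻¹) (𝐡 (-c⁻¹)), ← hwh _ hs, wWord, Bool.not_true]
      have : -(-c⁻¹)⁻¹ = c := by field_simp
      rw [this]
      simp only [← mul_assoc, R.add, add_neg_cancel, R.zero, one_mul]
      simp only [mul_assoc, R.add, neg_add_cancel, R.zero, mul_one]
    refine ⟨a + t ^ 2 * c⁻¹, t * -c⁻¹, mul_ne_zero ht hs, .inr ⟨c⁻¹, ?_⟩⟩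
    rw [e, e1, ← R.add, ← hm ht hs]
    simp only [mul_assoc]
    rw [← mul_assoc (𝐡 t) (𝐮 c⁻¹), hxh t _ ht]
    simp only [mul_assoc]
  have hNw : ∀ g, N g → N (g * 𝐰 1) := by
    rintro g ⟨a, t, ht, rfl | ⟨b, rfl⟩⟩
    · exact ⟨a, t, ht, .inr ⟨0, by rw [R.zero, mul_one]⟩⟩
    · have e : 𝐰 1 * 𝐮 b * 𝐰 1 = 𝐯 (-b) * 𝐡 (-1) := by
        rw [← hww, ← mul_assoc]
        have h := R.w_conj_u one_ne_zero b
        rw [inv_one, one_pow, one_mul] at h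
        rw [← h]; simp [mul_assoc]
      have : 𝐮 a * 𝐡 t * 𝐰 1 * 𝐮 b * 𝐰 1 = 𝐮 a * 𝐡 t * 𝐯 (-b) * 𝐡 (-1) := by
        simp only [mul_assoc] at e ⊢
        rw [e]
      rw [this]
      exact hNh _ _ hh (hNv _ _ ⟨a, t, ht, .inl rfl⟩ a t ht rfl)
  have hNw' : ∀ g, N g → N (g * (𝐰 1)⁻¹) := fun g hg => by
    rw [hwinv, ← mul_assoc]; exact hNw _ (hNh _ _ hh hg)
  refine Subgroup.closure_induction_right (p := fun g _ => N g) ?_ ?_ ?_ hgS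
  · exact ⟨0, 1, one_ne_zero, .inl (by rw [R.zero, R.h_one, one_mul])⟩
  all_goals rintro y _ _ ⟨b, c, rfl⟩ hy
  all_goals cases b
  rotate_left
  · exact hNx _ _ hy
  rotate_left
  · rw [R.inv_eq]; exact hNx _ _ hy
  all_goals try rw [R.inv_eq]
  all_goals
    have key : ∀ c : K, 𝐯 c = 𝐰 1 * 𝐮 (-c) * (𝐰 1)⁻¹ := fun c => by
      rw [R.w_conj_u one_ne_zero]; simp
    rw [key, ← mul_assoc, ← mul_assoc]
    exact hNw' _ (hNx _ _ (hNw _ hy))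

end CfsgLib.ChevSL2
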