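import Cfsg.Agent.Lib.Chev.Group
import Cfsg.Agent.Lib.Steinberg.Eta
import Cfsg.Agent.Lib.SteinbergTwo.Main
import Cfsg.Agent.Lib.ChevSL2.NormalForm

/-!
The homomorphism from SL(2) onto the subgroup generated by the root subgroups of a root and its negative.
-/

set_option autoImplicit false

namespace CfsgLib.ChevSL2

open Cfsg.Lie CfsgLib.Chev CfsgLib.SteinbergTwo
open scoped MatrixGroups

variable {D : ChevalleyDatum} {T : Tabs} {F : Type*} [Field F] (hc : Checked D T)
include hc

/-- The Weyl element of a root exchanges its root subgroup with that of the negative root. -/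
theorem elN_conj_elX_self {r : ℕ} (hr : r < D.nroots) (t : Fˣ) (u : F) :
    elN D F r (t : F) * elX D F r u * (elN D F r (t : F))⁻¹ = elX D F (D.neg r) (-((t : F)⁻¹ ^ 2 * u)) := by
  revert t u
  refine root_induction hc (P := fun r => ∀ (t : Fˣ) (u : F),
    elN D F r (t : F) * elX D F r u * (elN D F r (t : F))⁻¹ = elX D F (D.neg r) (-((t : F)⁻¹ ^ 2 * u))) ?_ ?_ hr
  · intro i t u
    have hp := simple_lt hc i.2
    have hn := neg_lt hc hp
    have e : elN D F (D.simple i) (t : F) =
        torus D T F (corChar D T (D.simple i) t) * elN D F (D.simple i) 1 := by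
      have h := elN_mul_inv hc hp t 1
      rw [div_one, Units.val_one] at h
      rw [← h, inv_mul_cancel_right]
    rw [e]
    calc torus D T F (corChar D T (D.simple i) t) * elN D F (D.simple i) 1 * elX D F (D.simple i) u *
          (torus D T F (corChar D T (D.simple i) t) * elN D F (D.simple i) 1)⁻¹
        = torus D T F (corChar D T (D.simple i) t) * (elN D F (D.simple i) 1 * elX D F (D.simple i) u *
          (elN D F (D.simple i) 1)⁻¹) * (torus D T F (corChar D T (D.simple i) t))⁻¹ := by group
      _ = _ := by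
        rw [nOne_conj_elX hc i hp, sig_simple hc, Steinberg.eta_simple F hc i, torus_conj_elX hc _ hn,
          rv_neg hc hp, chi_neg, chi_corChar_simple hc i hp, show D.cartan i (D.simple i) = 2 from cm_self hc i]
        congr 1
        simp [zpow_ofNat, inv_pow]
  · intro i s hs hP t u
    set η : F := (eta D T i s : F) with hη
    have hη2 : η * η = 1 := by rcases eta_cast hc (F := F) i hs with h | h <;> simp [hη, h]
    have hη0 : η ≠ 0 := fun h => by simp [h] at hη2
    set t' : Fˣ := Units.mk0 (η * t) (mul_ne_zero hη0 t.ne_zero) with ht'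
    have h1 := nOne_conj_elN hc (F := F) i hs (t' : F)
    have h2 := nOne_conj_elX hc (F := F) i hs (η * u)
    have h3 := nOne_conj_elX hc (F := F) i (neg_lt hc hs) (-((t' : F)⁻¹ ^ 2 * (η * u)))
    rw [← hη, ht', Units.val_mk0, ← mul_assoc, hη2, one_mul] at h1
    rw [← hη, ← mul_assoc, hη2, one_mul] at h2
    rw [eta_neg hc i hs, sig_neg hc i hs, ← hη] at h3
    rw [← h1, ← h2, ← hP t' (η * u)] at *
    rw [show -((t : F)⁻¹ ^ 2 * u) = η * -((t' : F)⁻¹ ^ 2 * (η * u)) by
      rw [ht', Units.val_mk0, mul_inv, mul_pow, inv_pow η, pow_two η, hη2, inv_one, one_mul,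
        mul_neg, mul_left_comm η, ← mul_assoc η η, hη2, one_mul]]
    rw [← h3, ht', Units.val_mk0]
    group

/-- The two root maps of a root. -/
noncomputable def rootPair (D : ChevalleyDatum) (F : Type*) [Field F] (r : ℕ) (b : Bool) (t : F) : GL D.Idx F :=
  if b then elX D F r t else elX D F (D.neg r) t

theorem rel_rootPair {r : ℕ} (hr : r < D.nroots) : Rel (rootPair D F r) where
  add b t u := by
    cases b
    · exact elX_add hc F (neg_lt hc hr) t u
    · exact elX_add hc F hr t u
  conj b t u ht := by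
    cases b
    · have h := elN_conj_elX_self hc (F := F) (neg_lt hc hr) (Units.mk0 t ht) u
      rw [neg_neg_root hc hr, Units.val_mk0] at h
      simpa [rootPair, wWord, elN, neg_neg_root hc hr] using h
    · have h := elN_conj_elX_self hc (F := F) hr (Units.mk0 t ht) u
      rw [Units.val_mk0] at h
      simpa [rootPair, wWord, elN] using h

theorem hWord_rootPair {r : ℕ} (hr : r < D.nroots) (t : Fˣ) :
    hWord (rootPair D F r) (t : F) = torus D T F (corChar D T r t) := by
  rw [← elH_eq_torus hc hr]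
  simp [hWord, wWord, rootPair, elH, elN]

omit hc in
theorem rel_img (K : Type*) [Field K] : Rel (fun b (t : K) => img K (b, t)) where
  add b t u := by
    have h := congrArg (toSL K) ((rel_gen K).add b t u)
    simpa [map_mul, toSL_gen] using h
  conj b t u ht := by
    have h := congrArg (toSL K) ((rel_gen K).conj b t u ht)
    simpa [map_mul, map_inv, toSL_gen, toSL_wWord] using h

omit hc in
theorem closure_img (K : Type*) [Field K] :
    Subgroup.closure {g : Matrix.SpecialLinearGroup (Fin 2) K | ∃ b t, g = img K (b, t)} = ⊤ := by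
  rw [eq_top_iff, ← MonoidHom.range_eq_top.2 (surjective_toSL K), MonoidHom.range_eq_map, ← closure_gen K,
    MonoidHom.map_closure, Subgroup.closure_le]
  rintro _ ⟨_, ⟨b, t, rfl⟩, rfl⟩
  exact Subgroup.subset_closure ⟨b, t, toSL_gen K b t⟩

/-- The homomorphism from SL(2) onto the group of a root pair. -/
theorem exists_hom {r : ℕ} (hr : r < D.nroots) :
    ∃ φ : Matrix.SpecialLinearGroup (Fin 2) F →* GL D.Idx F,
      φ.range = D.rootSubgroup F r ⊔ D.rootSubgroup F (D.neg r) ∧
      ∀ b t, φ (img F (b, t)) = rootPair D F r b t := by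
  classical
  let X : Bool → F → Matrix.SpecialLinearGroup (Fin 2) F × GL D.Idx F :=
    fun b t => (img F (b, t), rootPair D F r b t)
  set Γ := Subgroup.closure {g | ∃ b t, g = X b t}
  have hX : Rel X :=
    ⟨fun b t u => Prod.ext ((rel_img F).add b t u) ((rel_rootPair hc hr).add b t u),
      fun b t u ht => Prod.ext (by simpa [X, wWord] using (rel_img F).conj b t u ht)
        (by simpa [X, wWord] using (rel_rootPair hc hr).conj b t u ht)⟩
  have hw1 : ∀ b t, (wWord X b t).1 = wWord (fun b t => img F (b, t)) b t := fun b t => rfl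
  have hh1 : ∀ t, (hWord X t).1 = hWord (fun b t => img F (b, t)) t := fun t => rfl
  have hh2 : ∀ t, (hWord X t).2 = hWord (rootPair D F r) t := fun t => rfl
  have hneg1 : (-1 : F) ≠ 0 := neg_ne_zero.2 one_ne_zero
  have himgH : ∀ t : F, t ≠ 0 →
      ((hWord (fun b t => img F (b, t)) t : Matrix.SpecialLinearGroup (Fin 2) F) : Matrix (Fin 2) (Fin 2) F) =
        !![t, 0; 0, t⁻¹] := fun t ht => by
    rw [hWord, Matrix.SpecialLinearGroup.coe_mul, img_wWord F true ht, img_wWord F true hneg1]
    simp
  have hmul : ∀ t u : F, t ≠ 0 → u ≠ 0 → hWord X t * hWord X u = hWord X (t * u) := by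
    intro t u ht hu
    refine Prod.ext ?_ ?_
    · rw [Prod.fst_mul, hh1, hh1, hh1]
      apply Subtype.ext
      rw [Matrix.SpecialLinearGroup.coe_mul, himgH t ht, himgH u hu, himgH _ (mul_ne_zero ht hu)]
      simp [mul_comm]
    · have h := fun a : Fˣ => hWord_rootPair hc (F := F) hr a
      rw [Prod.snd_mul, hh2, hh2, hh2, ← Units.val_mk0 ht, ← Units.val_mk0 hu, ← Units.val_mul, h, h, h,
        ← map_mul, corChar_mul]
  let π : Γ →* Matrix.SpecialLinearGroup (Fin 2) F := (MonoidHom.fst _ _).comp Γ.subtype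
  have hmem : ∀ b t, X b t ∈ Γ := fun b t => Subgroup.subset_closure ⟨b, t, rfl⟩
  have hinj : Function.Injective π := by
    rw [← MonoidHom.ker_eq_bot_iff, Subgroup.eq_bot_iff_forall]
    rintro ⟨g, hgS⟩ hg
    rw [MonoidHom.mem_ker] at hg
    have hg1 : (g.1 : Matrix (Fin 2) (Fin 2) F) = 1 := by
      rw [show g.1 = 1 from hg]; rfl
    obtain ⟨a, t, ht, rfl | ⟨b, rfl⟩⟩ := normal_form_of_mul hX hmul hgS
    · simp only [Prod.fst_mul, hh1, Matrix.SpecialLinearGroup.coe_mul, himgH t ht] at hg1
      have h00 := congrFun (congrFun hg1 0) 0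
      have h01 := congrFun (congrFun hg1 0) 1
      simp [X, img] at h00 h01
      subst h00
      simp at h01
      subst h01
      exact Subtype.ext (by show X true 0 * hWord X 1 = 1; rw [hX.zero, hX.h_one, one_mul])
    · have h := congrFun (congrFun hg1 1) 0
      simp only [Prod.fst_mul, hh1, hw1, Matrix.SpecialLinearGroup.coe_mul, himgH t ht,
        img_wWord F true (one_ne_zero (α := F))] at h
      simp [X, img, ht] at h
  have hsurj : Function.Surjective π := by
    rw [← MonoidHom.range_eq_top, eq_top_iff, ← closure_img F, Subgroup.closure_le]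
    rintro _ ⟨b, t, rfl⟩
    exact ⟨⟨X b t, hmem b t⟩, rfl⟩
  let e := MulEquiv.ofBijective π ⟨hinj, hsurj⟩
  let φ : Matrix.SpecialLinearGroup (Fin 2) F →* GL D.Idx F :=
    ((MonoidHom.snd _ _).comp Γ.subtype).comp e.symm.toMonoidHom
  have hφ : ∀ b t, φ (img F (b, t)) = rootPair D F r b t := by
    intro b t
    have h : e.symm (img F (b, t)) = ⟨X b t, hmem b t⟩ := by
      rw [MulEquiv.symm_apply_eq]; rfl
    show (Subtype.val (e.symm (img F (b, t)))).2 = _
    rw [h]
  refine ⟨φ, le_antisymm ?_ ?_, hφ⟩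
  · rw [MonoidHom.range_eq_map, ← closure_img F, MonoidHom.map_closure, Subgroup.closure_le]
    rintro _ ⟨_, ⟨b, t, rfl⟩, rfl⟩
    rw [hφ]
    cases b
    · exact Subgroup.mem_sup_right ((mem_rootSubgroup hc (neg_lt hc hr)).2 ⟨t, rfl⟩)
    · exact Subgroup.mem_sup_left ((mem_rootSubgroup hc hr).2 ⟨t, rfl⟩)
  · refine sup_le (fun g hg => ?_) (fun g hg => ?_)
    · obtain ⟨t, rfl⟩ := (mem_rootSubgroup hc hr).1 hg
      exact ⟨_, hφ true t⟩
    · obtain ⟨t, rfl⟩ := (mem_rootSubgroup hc (neg_lt hc hr)).1 hg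
      exact ⟨_, hφ false t⟩

end CfsgLib.ChevSL2
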